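import Groth.Agent.SDiv28.RegPairExtend
import Groth.Agent.SDiv28.WeakDense
import Groth.Agent.SDiv28.SmoothWeakAss
import Groth.Agent.Purity10.FibreInduction
import Groth.Agent.FEtFF.PurityGlobal
import Groth.Agent.FEtFF.FlatExtend
import Groth.Agent.CAlgH.CIScheme
import Groth.Agent.S0247

/-!
# Opens whose complement has codimension at least two in the fibres
-/

set_option autoImplicit false
set_option linter.style.haveILetI false
set_option backward.isDefEq.respectTransparency.types false
set_option backward.isDefEq.respectTransparency false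

universe u

open CategoryTheory CategoryTheory.Limits AlgebraicGeometry TopologicalSpace IsLocalRing

namespace Groth.Agent.RelPurity2

variable {X S : Scheme.{u}}

/-- The complement of `U` has codimension at least two in every fibre. -/
def Cond (f : X ⟶ S) (U : X.Opens) : Prop :=
  ∀ x : X, x ∉ U → (2 : WithBot ℕ∞) ≤ ringKrullDim (CInt.fiberStalk f x)

theorem fiberStalk_comp_openImmersion {W : Scheme.{u}} (j : W ⟶ X) [IsOpenImmersion j] (f : X ⟶ S) (w : W) :
    Nonempty (CInt.fiberStalk (j ≫ f) w ≃+* CInt.fiberStalk f (j w)) := by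
  obtain ⟨e₁⟩ := CAlgH.CIScheme.fiberStalk_equiv (j ≫ f) w
  obtain ⟨e₂⟩ := CAlgH.CIScheme.fiberStalk_equiv f (j w)
  let E : X.presheaf.stalk (j w) ≃+* W.presheaf.stalk w := (asIso (j.stalkMap w)).commRingCatIsoToRingEquiv
  refine ⟨e₁.symm.trans ((Ideal.quotientEquiv _ _ E ?_).symm.trans e₂)⟩
  rw [Ideal.map_map, Scheme.Hom.stalkMap_comp, CommRingCat.hom_comp]
  rfl

theorem Cond.preimage {f : X ⟶ S} {U : X.Opens} (h : Cond f U) {W : Scheme.{u}} (j : W ⟶ X) [IsOpenImmersion j] :
    Cond (j ≫ f) (j ⁻¹ᵁ U) := fun w hw => by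
  obtain ⟨e⟩ := fiberStalk_comp_openImmersion j f w
  rw [ringKrullDim_eq_of_ringEquiv e]
  exact h (j w) hw

theorem Cond.mono {f : X ⟶ S} {U U' : X.Opens} (h : Cond f U) (hle : U ≤ U') : Cond f U' :=
  fun x hx => h x fun h' => hx (hle h')

variable (f : X ⟶ S) [Smooth f] (U : X.Opens) (hU : Cond f U)

include hU

theorem hasRegPair : ∀ z : X, z ∉ U → SDiv28.RegPairExtend.HasRegPair z := fun z hz =>
  SDiv28.RegPairExtend.exists_regPair_nhd f z (hU z hz)

theorem isDenseOpen : ModPairLib.IsDenseOpen U := by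
  refine SDiv28.isDenseOpen_of_weakAss_mem U fun x hx => ?_
  by_contra hxU
  have h2 := hU x hxU
  rw [SDiv28.SmoothWeakAss.coheight_asFiber_eq_zero f hx] at h2
  exact absurd h2 (by decide)

theorem bijective_ι_app {V : X.Opens} (hV : IsAffineOpen V) : Function.Bijective (U.ι.app V) := by
  rw [Scheme.Opens.ι_app]
  have eB : U.ι ''ᵁ (U.ι ⁻¹ᵁ V) = U ⊓ V := by
    rw [Scheme.Hom.image_preimage_eq_opensRange_inf, Scheme.Opens.opensRange_ι]
  refine FlatMor12.RegularExtend.bijective_map_of_eq _ (rfl : V = V) eB inf_le_right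
    ⟨fun a b h => SDiv28.RegPairExtend.res_injective (isDenseOpen f U hU) h,
      fun b => SDiv28.RegPairExtend.exists_extend (isDenseOpen f U hU) (hasRegPair f U hU) hV b⟩

theorem restrict_full_faithful [QuasiCompact U.ι] : (FEt.restrict U.ι).Full ∧ (FEt.restrict U.ι).Faithful := by
  refine FEtFF.restrict_full_faithful U.ι (fun Y O _ => ?_) fun Y O _ z _ => ?_
  all_goals
    haveI : Etale Y.hom := Y.prop.2
    have hb := FEtFF.FlatExtend.bijective_app_fst U.ι (fun V hV => bijective_ι_app f U hU hV) Y.hom (Y.hom ⁻¹ᵁ O)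
  · exact hb.1
  · exact hb.2 z

theorem purityHolds_stalk [IsLocallyNoetherian S] [IsLocallyNoetherian X] (x : X) (hx : x ∉ U) :
    FEt.PurityHolds (X.presheaf.stalk x) := by
  let A := S.presheaf.stalk (f x)
  let B := X.presheaf.stalk x
  letI : Algebra A B := (f.stalkMap x).hom.toAlgebra
  haveI : IsLocalHom (algebraMap A B) := inferInstanceAs (IsLocalHom (f.stalkMap x).hom)
  haveI : Module.Flat A B := Flat.stalkMap f x
  haveI := Purity10.isLocalRing_quotient_map (A := A) (B := B) (maximalIdeal.isMaximal A).ne_top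
  obtain ⟨e⟩ := CAlgH.CIScheme.fiberStalk_equiv f x
  haveI := SDiv28.SmoothRegImm.isRegularLocalRing_fiberStalk f x
  haveI : IsRegularLocalRing (B ⧸ (maximalIdeal A).map (algebraMap A B)) :=
    IsRegularLocalRing.of_ringEquiv (R := CInt.fiberStalk f x) e.symm
  have hd : (2 : WithBot ℕ∞) ≤ ringKrullDim (B ⧸ (maximalIdeal A).map (algebraMap A B)) := by
    exact (hU x hx).trans_eq (ringKrullDim_eq_of_ringEquiv e).symm
  refine Purity10.purityHolds_of_flat_fibre (A := A) (B := B) ?_ (S0247.result _ hd)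
  rw [← CAlgH3.depth_eq_ringKrullDim] at hd
  exact WithBot.coe_le_coe.1 hd

/-- Noetherian case. -/
theorem essSurj_of_noetherian [IsLocallyNoetherian S] : (FEt.restrict U.ι).EssSurj := by
  haveI : IsLocallyNoetherian X := LocallyOfFiniteType.isLocallyNoetherian f
  exact FEtFF.PurityGlobal.essSurj_of_purityHolds U
    (fun x hx => SDiv28.RegPairExtend.two_le_depth (hasRegPair f U hU x hx))
    fun x hx => purityHolds_stalk f U hU x hx

end Groth.Agent.RelPurity2
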