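import Groth.Agent.RelPurity2.Model

/-!
# A basis of charts
-/

set_option autoImplicit false
set_option linter.style.haveILetI false
set_option backward.isDefEq.respectTransparency.types false
set_option backward.isDefEq.respectTransparency false

universe u

open CategoryTheory CategoryTheory.Limits AlgebraicGeometry TopologicalSpace IsLocalRing

namespace Groth.Agent.RelPurity2

variable {X S : Scheme.{u}}

theorem map_maximalIdeal_of_bijective {R R' : Type u} [CommRing R] [CommRing R'] [IsLocalRing R] [IsLocalRing R']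
    (φ : R →+* R') (h : Function.Bijective φ) : (maximalIdeal R).map φ = maximalIdeal R' :=
  haveI := Ideal.map_isMaximal_of_equiv (p := maximalIdeal R) (RingEquiv.ofBijective φ h)
  IsLocalRing.eq_maximalIdeal this

theorem fiberStalk_comp_openImmersion_right {T : Scheme.{u}} (f : X ⟶ S) (j : S ⟶ T) [IsOpenImmersion j] (x : X) :
    Nonempty (CInt.fiberStalk (f ≫ j) x ≃+* CInt.fiberStalk f x) := by
  obtain ⟨e₁⟩ := CAlgH.CIScheme.fiberStalk_equiv (f ≫ j) x
  obtain ⟨e₂⟩ := CAlgH.CIScheme.fiberStalk_equiv f x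
  have hφ : (maximalIdeal (T.presheaf.stalk (j (f x)))).map (j.stalkMap (f x)).hom =
      maximalIdeal (S.presheaf.stalk (f x)) :=
    map_maximalIdeal_of_bijective _ (ConcreteCategory.bijective_of_isIso (j.stalkMap (f x)))
  have h : (maximalIdeal (T.presheaf.stalk ((f ≫ j) x))).map ((f ≫ j).stalkMap x).hom =
      (maximalIdeal (S.presheaf.stalk (f x))).map (f.stalkMap x).hom := by
    rw [← hφ, Ideal.map_map, Scheme.Hom.stalkMap_comp, CommRingCat.hom_comp]
    rfl
  exact ⟨e₁.symm.trans ((Ideal.quotEquivOfEq h).trans e₂)⟩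

variable (f : X ⟶ S) (U : X.Opens)

/-- A chart: a quasi-compact open of `W` inside `U` from which covers extend to `W`. -/
def IsChart (W : X.Opens) : Prop :=
  IsAffineOpen W ∧ ∃ O : (W : Scheme.{u}).Opens, IsCompact (O : Set (W : Scheme.{u})) ∧ O ≤ W.ι ⁻¹ᵁ U ∧
    Cond (W.ι ≫ f) O ∧ (FEt.restrict O.ι).EssSurj

theorem isChart_of_standardSmooth (hU : Cond f U) {T : S.Opens} (hT : IsAffineOpen T) {W : X.Opens}
    (hW : IsAffineOpen W) (e : W ≤ f ⁻¹ᵁ T) {n : ℕ}
    (h : RingHom.IsStandardSmoothOfRelativeDimension n (f.appLE T W e).hom) : IsChart f U W := by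
  refine ⟨hW, ?_⟩
  letI : Algebra Γ(S, T) Γ(X, W) := (f.appLE T W e).hom.toAlgebra
  haveI : Algebra.IsStandardSmoothOfRelativeDimension n Γ(S, T) Γ(X, W) := h.toAlgebra
  let φ : Spec Γ(X, W) ⟶ Spec Γ(S, T) := Spec.map (CommRingCat.ofHom (algebraMap Γ(S, T) Γ(X, W)))
  have hφ : hW.fromSpec ≫ f = φ ≫ hT.fromSpec := (IsAffineOpen.SpecMap_appLE_fromSpec f hT hW e).symm
  have hcond : Cond φ (hW.fromSpec ⁻¹ᵁ U) := fun q hq => by
    obtain ⟨ε⟩ := fiberStalk_comp_openImmersion_right φ hT.fromSpec q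
    have h2 := hU.preimage hW.fromSpec q hq
    rw [hφ, ringKrullDim_eq_of_ringEquiv ε] at h2
    exact h2
  obtain ⟨O, hOc, hOU, hOcond, hOess⟩ := exists_qc_open (A := Γ(S, T)) (B := Γ(X, W)) (n := n)
    (hW.fromSpec ⁻¹ᵁ U) hcond
  let r : (W : Scheme.{u}) ⟶ Spec Γ(X, W) := hW.isoSpec.hom
  haveI : IsIso r := hW.isoSpec.isIso_hom
  have hr : r ≫ hW.fromSpec = W.ι := by
    show hW.isoSpec.hom ≫ hW.fromSpec = W.ι
    rw [← hW.isoSpec_inv_ι, Iso.hom_inv_id_assoc]
  refine ⟨r ⁻¹ᵁ O, r.isCompact_preimage hOc, fun x hx => ?_, ?_, ?_⟩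
  · show W.ι x ∈ U
    rw [← hr, Scheme.Hom.comp_apply]
    exact hOU hx
  · intro x hx
    have e1 : W.ι ≫ f = (r ≫ φ) ≫ hT.fromSpec := by rw [Category.assoc, ← hφ, ← Category.assoc, hr]
    rw [e1]
    obtain ⟨ε⟩ := fiberStalk_comp_openImmersion_right (r ≫ φ) hT.fromSpec x
    obtain ⟨ε'⟩ := fiberStalk_comp_openImmersion r φ x
    rw [ringKrullDim_eq_of_ringEquiv ε, ringKrullDim_eq_of_ringEquiv ε']
    exact hOcond (r x) hx
  · haveI := FEtFF.BiratPurity.restrict_isEquivalence_of_isIso (r ∣_ O)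
    haveI := hOess
    refine ⟨fun V => ?_⟩
    let V₁ := (FEt.restrict (r ∣_ O)).objPreimage V
    let E₁ := (FEt.restrict O.ι).objPreimage V₁
    exact ⟨(FEt.restrict r).obj E₁,
      ⟨((FEtStein.restrictCompIso (r ⁻¹ᵁ O).ι r _ rfl).app E₁).symm ≪≫
        (FEtStein.restrictCompIso (r ∣_ O) O.ι _ (morphismRestrict_ι r O)).app E₁ ≪≫
        (FEt.restrict (r ∣_ O)).mapIso ((FEt.restrict O.ι).objObjPreimageIso V₁) ≪≫
        (FEt.restrict (r ∣_ O)).objObjPreimageIso V⟩⟩

/-- Charts form a basis. -/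
theorem exists_isChart [Smooth f] (hU : Cond f U) (x : X) (O : X.Opens) (hx : x ∈ O) :
    ∃ W : X.Opens, IsChart f U W ∧ x ∈ W ∧ W ≤ O := by
  obtain ⟨T, hT, V, hV, hxV, e, hsm⟩ := Smooth.exists_isStandardSmooth f x
  obtain ⟨g, hg, hxg⟩ := hV.exists_basicOpen_le (V := O) ⟨x, hx⟩ hxV
  refine ⟨X.basicOpen g, ?_, hxg, hg⟩
  letI : Algebra Γ(S, T) Γ(X, V) := (f.appLE T V e).hom.toAlgebra
  haveI : Algebra.IsStandardSmooth Γ(S, T) Γ(X, V) := hsm.toAlgebra
  obtain ⟨ι, σ, _, _, ⟨P⟩⟩ := Algebra.IsStandardSmooth.out (R := Γ(S, T)) (S := Γ(X, V))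
  have hn : RingHom.IsStandardSmoothOfRelativeDimension P.dimension (f.appLE T V e).hom :=
    (RingHom.isStandardSmoothOfRelativeDimension_algebraMap (R := Γ(S, T)) (S := Γ(X, V)) P.dimension).2
      ⟨ι, σ, _, inferInstance, P, rfl⟩
  refine isChart_of_standardSmooth f U hU hT (hV.basicOpen g) ((X.basicOpen_le g).trans e) (n := P.dimension) ?_
  haveI := hV.isLocalization_basicOpen g
  haveI : Algebra.IsStandardSmoothOfRelativeDimension 0 Γ(X, V) Γ(X, X.basicOpen g) :=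
    Algebra.IsStandardSmoothOfRelativeDimension.localization_away g
  have h2 := RingHom.IsStandardSmoothOfRelativeDimension.comp
    ((RingHom.isStandardSmoothOfRelativeDimension_algebraMap 0).2 this) hn
  rw [zero_add] at h2
  convert h2 using 1
  rw [show algebraMap Γ(X, V) Γ(X, X.basicOpen g) = (X.presheaf.map (homOfLE (X.basicOpen_le g)).op).hom from rfl,
    ← CommRingCat.hom_comp, Scheme.Hom.appLE_map]

end Groth.Agent.RelPurity2
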