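import Groth.Agent.RelPurity2.Basic
import Groth.Agent.Dual6Lib.SmoothDegree
import Groth.Agent.Synt15.SpecFibre
import Groth.Agent.EGA43.FibDepth.TensorTrd
import Groth.Agent.EGA43.FibDepth.FibreDim

/-!
# The codimension condition on an affine chart, in terms of transcendence degrees
-/

set_option autoImplicit false
set_option linter.style.haveILetI false
set_option backward.isDefEq.respectTransparency.types false
set_option backward.isDefEq.respectTransparency false

universe u

open CategoryTheory CategoryTheory.Limits AlgebraicGeometry TopologicalSpace IsLocalRing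

namespace Groth.Agent.RelPurity2

open EGA43.FibDepth (trd trdLocus)

attribute [local instance] Algebra.TensorProduct.rightAlgebra

variable {A B : Type u} [CommRing A] [CommRing B] [Algebra A B] {n : ℕ}

theorem smoothRelDim_of_standard (n : ℕ) [h : Algebra.IsStandardSmoothOfRelativeDimension n A B] :
    FlatCA.SmoothRelDim n A B :=
  (HasRingHomProperty.Spec_iff (P := @SmoothOfRelativeDimension n)).2
    (RingHom.locally_of RingHom.isStandardSmoothOfRelativeDimension_respectsIso _
      ((RingHom.isStandardSmoothOfRelativeDimension_algebraMap n).2 h))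

theorem two_le_dim_iff (hs : FlatCA.SmoothRelDim n A B) (q : PrimeSpectrum B) :
    (2 : WithBot ℕ∞) ≤ ringKrullDim (CInt.fiberStalk (Spec.map (CommRingCat.ofHom (algebraMap A B))) q) ↔
      trd A q + 2 ≤ n := by
  obtain ⟨e⟩ := Synt15.fiberStalk_Spec_equiv A B q
  obtain ⟨-, m, hm, hn⟩ := Dual6Lib.SmoothDegree.fibre_data hs q.asIdeal
  rw [ringKrullDim_eq_of_ringEquiv e, hm]
  have hn' : m + trd A q = n := hn
  constructor
  · intro h
    have : 2 ≤ m := by exact_mod_cast h
    omega
  · intro h
    exact_mod_cast (show 2 ≤ m by omega)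

theorem isOpen_trdLocus_zeroLocus [Algebra.FiniteType A B] (J : Ideal B) (c : ℕ) :
    IsOpen (trdLocus A (PrimeSpectrum.zeroLocus (J : Set B)) c) := by
  let mk : B →ₐ[A] B ⧸ J := Ideal.Quotient.mkₐ A J
  haveI : Algebra.FiniteType A (B ⧸ J) :=
    Algebra.FiniteType.of_surjective mk Ideal.Quotient.mk_surjective
  have hs : Function.Surjective mk.toRingHom := Ideal.Quotient.mk_surjective
  let G := {q : PrimeSpectrum (B ⧸ J) | ∀ q' : PrimeSpectrum (B ⧸ J), q'.asIdeal ≤ q.asIdeal →
      q'.asIdeal.comap (algebraMap A (B ⧸ J)) = q.asIdeal.comap (algebraMap A (B ⧸ J)) → trd A q' ≤ c}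
  have hG : IsOpen G := EGA43.FibDepth.isOpen_trd_le c
  have hemb := PrimeSpectrum.isClosedEmbedding_comap_of_surjective (B ⧸ J) mk.toRingHom hs
  have hrange : Set.range (PrimeSpectrum.comap mk.toRingHom) = PrimeSpectrum.zeroLocus (J : Set B) := by
    rw [range_comap_of_surjective _ _ hs]
    congr 1
    exact congrArg SetLike.coe (Ideal.mk_ker (I := J))
  have hcomap : ∀ r : PrimeSpectrum (B ⧸ J),
      (PrimeSpectrum.comap mk.toRingHom r).asIdeal.comap (algebraMap A B) = r.asIdeal.comap (algebraMap A (B ⧸ J)) :=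
    fun r => by ext a; exact Iff.rfl
  have htrd : ∀ r : PrimeSpectrum (B ⧸ J), trd A (PrimeSpectrum.comap mk.toRingHom r) = trd A r := fun r =>
    EGA43.FibDepth.trd_comap_of_surjectiveOnStalks mk (RingHom.surjectiveOnStalks_of_surjective hs) r
  have key : (trdLocus A (PrimeSpectrum.zeroLocus (J : Set B)) c)ᶜ = PrimeSpectrum.comap mk.toRingHom '' Gᶜ := by
    ext q
    simp only [trdLocus, G, Set.mem_compl_iff, Set.mem_setOf_eq, Set.mem_image, not_forall, exists_prop]
    constructor
    · rintro ⟨q', hle, hp, hZ, ht⟩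
      have hq : q ∈ PrimeSpectrum.zeroLocus (J : Set B) := fun b hb => hle (hZ hb)
      rw [← hrange] at hq hZ
      obtain ⟨r, rfl⟩ := hq
      obtain ⟨r', rfl⟩ := hZ
      refine ⟨r, ⟨r', ?_, (hcomap r').symm.trans (hp.trans (hcomap r)), by rwa [← htrd]⟩, rfl⟩
      intro b hb
      obtain ⟨b, rfl⟩ := hs b
      exact hle (x := b) hb
    · rintro ⟨r, ⟨r', hle, hp, ht⟩, rfl⟩
      exact ⟨PrimeSpectrum.comap mk.toRingHom r', Ideal.comap_mono hle, (hcomap r').trans (hp.trans (hcomap r).symm),
        hrange ▸ Set.mem_range_self r', by rwa [htrd]⟩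
  exact isClosed_compl_iff.1 (key ▸ hemb.isClosedMap _ hG.isClosed_compl)

/-- A finitely generated subideal still has small fibre dimension. -/
theorem exists_fg_le [Algebra.FiniteType A B] (J : Ideal B) (c : ℕ)
    (h : ∀ q : PrimeSpectrum B, J ≤ q.asIdeal → trd A q ≤ c) :
    ∃ J' : Ideal B, J'.FG ∧ J' ≤ J ∧ ∀ q : PrimeSpectrum B, J' ≤ q.asIdeal → trd A q ≤ c := by
  classical
  let G : {s : Finset B // (s : Set B) ⊆ J} → Set (PrimeSpectrum B) := fun s =>
    trdLocus A (PrimeSpectrum.zeroLocus ((Ideal.span (s.1 : Set B) : Ideal B) : Set B)) c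
  have hcov : ∀ q : PrimeSpectrum B, ∃ s, q ∈ G s := by
    intro q
    let p := q.asIdeal.comap (algebraMap A B)
    let D := p.Fiber B
    haveI : Algebra.FiniteType p.ResidueField D := EGA43.FibDepth.finiteType_fibre (A := A) (R := B) p D
    haveI : IsNoetherianRing D := Algebra.FiniteType.isNoetherianRing p.ResidueField D
    obtain ⟨s, hs, hspan⟩ := (Submodule.fg_span_iff_fg_span_finset_subset _).1
      (IsNoetherian.noetherian (Ideal.span (algebraMap B D '' (J : Set B))) :
        (Submodule.span D (algebraMap B D '' (J : Set B))).FG)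
    have hs' : ∀ d ∈ s, ∃ b ∈ J, algebraMap B D b = d := fun d hd => hs hd
    choose! b hbJ hb using hs'
    refine ⟨⟨s.image b, by
      intro x hx
      obtain ⟨d, hd, rfl⟩ := Finset.mem_image.1 hx
      exact hbJ d hd⟩, fun q' hle hp hZ => h q' fun x hx => ?_⟩
    obtain ⟨Q, hQ⟩ := EGA43.FibDepth.exists_prime_over (A := A) (p := p) D q' hp.symm
    have hmem : algebraMap B D x ∈ Q.asIdeal := by
      have : Ideal.span (s : Set D) ≤ Q.asIdeal := Ideal.span_le.2 fun d hd => by
        rw [← hb d hd]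
        have h1 : b d ∈ q'.asIdeal := hZ (Ideal.subset_span (Finset.mem_image_of_mem b hd))
        rw [← hQ] at h1
        exact h1
      refine this ?_
      rw [Ideal.span, ← hspan]
      exact Ideal.subset_span ⟨x, hx, rfl⟩
    rw [← hQ]
    exact hmem
  obtain ⟨t, ht⟩ := isCompact_univ.elim_finite_subcover G
    (fun s => isOpen_trdLocus_zeroLocus _ c) (fun q _ => Set.mem_iUnion.2 (hcov q))
  refine ⟨Ideal.span ((t.biUnion fun s => s.1 : Finset B) : Set B), ⟨_, rfl⟩, Ideal.span_le.2 fun x hx => ?_,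
    fun q hq => ?_⟩
  · obtain ⟨s, -, hx⟩ := Finset.mem_biUnion.1 hx
    exact s.2 hx
  · obtain ⟨s, hst, hs⟩ := Set.mem_iUnion₂.1 (ht (Set.mem_univ q))
    exact hs q le_rfl rfl fun x hx => hq ((Ideal.span_mono
      (show (s.1 : Set B) ⊆ (t.biUnion fun s => s.1 : Finset B) from
        Finset.coe_subset.2 (Finset.subset_biUnion_of_mem _ hst))) hx)

end Groth.Agent.RelPurity2
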