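import Groth.Agent.RelPurity2.Chart

/-!
# Restriction to an open with fibrewise codimension two complement is fully faithful
-/

set_option autoImplicit false
set_option linter.style.haveILetI false
set_option backward.isDefEq.respectTransparency.types false
set_option backward.isDefEq.respectTransparency false

universe u

open CategoryTheory CategoryTheory.Limits AlgebraicGeometry TopologicalSpace

namespace Groth.Agent.RelPurity2

variable {X S : Scheme.{u}} {f : X ⟶ S} [Smooth f] {U : X.Opens}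
variable {Y Y' : FEt.Cat X} (c : pullback Y.hom U.ι ⟶ Y'.left)

/-- `b` extends `c` over `W`. -/
def Good (W : X.Opens) (b : ((Y.hom ⁻¹ᵁ W : Y.left.Opens) : Scheme.{u}) ⟶ Y'.left) : Prop :=
  b ≫ Y'.hom = (Y.hom ⁻¹ᵁ W).ι ≫ Y.hom ∧
    ∀ (T : Scheme.{u}) (p : T ⟶ (Y.hom ⁻¹ᵁ W : Y.left.Opens)) (_ : Flat p) (r : T ⟶ (U : Scheme.{u}))
      (w : (p ≫ (Y.hom ⁻¹ᵁ W).ι) ≫ Y.hom = r ≫ U.ι),
      p ≫ b = pullback.lift (p ≫ (Y.hom ⁻¹ᵁ W).ι) r w ≫ c

theorem Good.mono {W W' : X.Opens} (h : W ≤ W') {b} (hb : Good c W' b) :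
    Good c W (Y.left.homOfLE (Y.hom.preimage_mono h) ≫ b) := by
  refine ⟨by rw [Category.assoc, hb.1, Scheme.homOfLE_ι_assoc], fun T p hp r w => ?_⟩
  haveI := hp
  have := hb.2 T (p ≫ Y.left.homOfLE (Y.hom.preimage_mono h)) inferInstance r (by
    rw [Category.assoc p]; erw [Scheme.homOfLE_ι]; exact w)
  simp only [Category.assoc] at this ⊢
  refine this.trans (congrArg (· ≫ c) (pullback.hom_ext ?_ ?_))
  · rw [pullback.lift_fst, pullback.lift_fst]; exact congrArg (p ≫ ·) (Scheme.homOfLE_ι _ _)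
  · rw [pullback.lift_snd, pullback.lift_snd]

theorem existsUnique_good (hU : Cond f U) (hc : c ≫ Y'.hom = pullback.fst Y.hom U.ι ≫ Y.hom) {W : X.Opens}
    (hW : IsChart f U W) : ∃! b, Good (Y := Y) (Y' := Y') c W b := by
  obtain ⟨hWa, O, hOc, hOU, hcond, -⟩ := hW
  haveI : QuasiCompact O.ι := by
    haveI : IsAffine (W : Scheme.{u}) := hWa
    haveI : CompactSpace (O : Scheme.{u}) := isCompact_iff_compactSpace.1 hOc
    exact (quasiCompact_iff_compactSpace O.ι).2 inferInstance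
  have hbij : ∀ A, IsAffineOpen A → Function.Bijective (O.ι.app A) := fun A hA => bijective_ι_app (W.ι ≫ f) O hcond hA
  haveI : IsFinite Y.hom := Y.prop.1
  haveI : Etale Y.hom := Y.prop.2
  haveI : IsFinite Y'.hom := Y'.prop.1
  let Z : Scheme.{u} := (Y.hom ⁻¹ᵁ W : Y.left.Opens)
  let m : Z ⟶ X := (Y.hom ⁻¹ᵁ W).ι ≫ Y.hom
  let hZ : Z ⟶ (W : Scheme.{u}) := Y.hom ∣_ W
  have hZW : hZ ≫ W.ι = m := morphismRestrict_ι Y.hom W
  haveI : Flat hZ := IsZariskiLocalAtTarget.restrict (P := @Flat) inferInstance W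
  let l : (O : Scheme.{u}) ⟶ (U : Scheme.{u}) := IsOpenImmersion.lift U.ι (O.ι ≫ W.ι) (by
    rw [Scheme.Opens.range_ι]; rintro - ⟨z, rfl⟩; exact hOU z.2)
  have hl : l ≫ U.ι = O.ι ≫ W.ι := IsOpenImmersion.lift_fac _ _ _
  let μ : pullback hZ O.ι ⟶ pullback Y.hom U.ι :=
    pullback.lift (pullback.fst hZ O.ι ≫ (Y.hom ⁻¹ᵁ W).ι) (pullback.snd hZ O.ι ≫ l) (by
      rw [Category.assoc, Category.assoc, hl, ← pullback.condition_assoc, hZW])
  obtain ⟨b, hb, hbc⟩ := FEtFF.FlatExtend.exists_hom O.ι hbij Y'.hom hZ m (μ ≫ c) (by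
    rw [Category.assoc, hc, pullback.lift_fst_assoc, Category.assoc])
  refine ⟨b, ⟨hb, fun T p hp r w => ?_⟩, fun b' hb' => ?_⟩
  · haveI := hp
    let hT : T ⟶ (W : Scheme.{u}) := p ≫ hZ
    refine FEtFF.FlatExtend.hom_ext O.ι hbij Y'.hom hT (hT ≫ W.ι) _ _ ?_ ?_ ?_
    · rw [Category.assoc, hb, Category.assoc, hZW]
    · rw [Category.assoc, hc, pullback.lift_fst_assoc, Category.assoc, Category.assoc, hZW]
    · let σ : pullback hT O.ι ⟶ pullback hZ O.ι :=
        pullback.lift (pullback.fst hT O.ι ≫ p) (pullback.snd hT O.ι) (by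
          rw [Category.assoc]; exact pullback.condition)
      have h1 : pullback.fst hT O.ι ≫ p ≫ b = σ ≫ μ ≫ c := by
        rw [← hbc, ← Category.assoc σ, pullback.lift_fst, Category.assoc]
      rw [h1, ← Category.assoc σ, ← Category.assoc (pullback.fst hT O.ι)]
      refine congrArg (· ≫ c) (pullback.hom_ext ?_ ?_)
      · simp only [σ, μ, Category.assoc, pullback.lift_fst, pullback.lift_fst_assoc]
      · simp only [σ, μ, Category.assoc, pullback.lift_snd, pullback.lift_snd_assoc]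
        rw [← cancel_mono U.ι, Category.assoc, Category.assoc, hl, ← w, ← pullback.condition_assoc,
          Category.assoc, Category.assoc]
        exact congrArg (fun k => pullback.fst hT O.ι ≫ p ≫ k) hZW
  · refine FEtFF.FlatExtend.hom_ext O.ι hbij Y'.hom hZ m _ _ hb'.1 hb ?_
    rw [hbc]
    exact hb'.2 _ (pullback.fst hZ O.ι) inferInstance (pullback.snd hZ O.ι ≫ l) _

omit c in
theorem restrict_faithful' (hU : Cond f U) : (FEt.restrict U.ι).Faithful := by
  constructor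
  intro Y Y' a a' haa
  let F := FEt.restrict U.ι
  let c : pullback Y.hom U.ι ⟶ Y'.left := (F.map a).left ≫ pullback.fst Y'.hom U.ι
  have hca : ∀ a : Y ⟶ Y', (F.map a).left ≫ pullback.fst Y'.hom U.ι = pullback.fst Y.hom U.ι ≫ a.left := fun a =>
    pullback.lift_fst _ _ _
  have key : ∀ a : Y ⟶ Y', c = pullback.fst Y.hom U.ι ≫ a.left → ∀ W : X.Opens,
      Good c W ((Y.hom ⁻¹ᵁ W).ι ≫ a.left) := fun a hc W => by
    refine ⟨by rw [Category.assoc]; exact congrArg (_ ≫ ·) (FEtQuot.hom_w a), fun T p _ r w => ?_⟩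
    rw [hc, pullback.lift_fst_assoc, Category.assoc]
  have hc : c ≫ Y'.hom = pullback.fst Y.hom U.ι ≫ Y.hom := by
    show ((F.map a).left ≫ _) ≫ _ = _
    rw [hca, Category.assoc]; exact congrArg (_ ≫ ·) (FEtQuot.hom_w a)
  apply MorphismProperty.Over.Hom.ext
  let 𝒱 : Y.left.OpenCover :=
    { I₀ := {W : X.Opens // IsChart f U W}
      X := fun i => (Y.hom ⁻¹ᵁ i.1).toScheme
      f := fun i => (Y.hom ⁻¹ᵁ i.1).ι
      mem₀ := by
        rw [Scheme.presieve₀_mem_precoverage_iff]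
        refine ⟨fun x => ?_, inferInstance⟩
        obtain ⟨W, hW, hx, -⟩ := exists_isChart f U hU (Y.hom x) ⊤ trivial
        exact ⟨⟨W, hW⟩, ⟨x, hx⟩, rfl⟩ }
  exact 𝒱.hom_ext _ _ fun i => (existsUnique_good c hU hc i.2).unique (key a (hca a) i.1)
    (key a' ((congrArg (fun m => m.left ≫ pullback.fst Y'.hom U.ι) haa).trans (hca a')) i.1)

omit c in
theorem restrict_full' (hU : Cond f U) : (FEt.restrict U.ι).Full := by
  constructor
  intro Y Y' α
  let c : pullback Y.hom U.ι ⟶ Y'.left := α.left ≫ pullback.fst Y'.hom U.ι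
  have hα : α.left ≫ pullback.snd Y'.hom U.ι = pullback.snd Y.hom U.ι := FEtQuot.hom_w α
  have hc : c ≫ Y'.hom = pullback.fst Y.hom U.ι ≫ Y.hom := by
    exact (Category.assoc _ _ _).trans ((congrArg (α.left ≫ ·) pullback.condition).trans
      ((Category.assoc _ _ _).symm.trans ((congrArg (· ≫ U.ι) hα).trans pullback.condition.symm)))
  let 𝒱 : Y.left.OpenCover :=
    { I₀ := {W : X.Opens // IsChart f U W}
      X := fun i => (Y.hom ⁻¹ᵁ i.1).toScheme
      f := fun i => (Y.hom ⁻¹ᵁ i.1).ι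
      mem₀ := by
        rw [Scheme.presieve₀_mem_precoverage_iff]
        refine ⟨fun x => ?_, inferInstance⟩
        obtain ⟨W, hW, hx, -⟩ := exists_isChart f U hU (Y.hom x) ⊤ trivial
        exact ⟨⟨W, hW⟩, ⟨x, hx⟩, rfl⟩ }
  let b : ∀ i : 𝒱.I₀, 𝒱.X i ⟶ Y'.left := fun i => (existsUnique_good c hU hc i.2).choose
  have hb : ∀ i : 𝒱.I₀, Good c i.1 (b i) := fun i => (existsUnique_good c hU hc i.2).choose_spec.1
  letI : Preorder 𝒱.I₀ := inferInstanceAs (Preorder {W : X.Opens // IsChart f U W})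
  letI : 𝒱.LocallyDirected :=
    { trans := fun h => Y.left.homOfLE (Y.hom.preimage_mono (leOfHom h))
      trans_id := fun i => Y.left.homOfLE_rfl _
      trans_comp := fun h h' => (Y.left.homOfLE_homOfLE _ _).symm
      w := fun h => Y.left.homOfLE_ι _
      directed := fun {i j} x => by
        change ↥(pullback (Y.hom ⁻¹ᵁ i.1).ι (Y.hom ⁻¹ᵁ j.1).ι) at x
        let a : Y.left := (pullback.fst _ _ ≫ (Y.hom ⁻¹ᵁ i.1).ι) x
        have hai : a ∈ Y.hom ⁻¹ᵁ i.1 := (pullback.fst (Y.hom ⁻¹ᵁ i.1).ι (Y.hom ⁻¹ᵁ j.1).ι x).2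
        have haj : a ∈ Y.hom ⁻¹ᵁ j.1 := by
          show ((pullback.fst (Y.hom ⁻¹ᵁ i.1).ι (Y.hom ⁻¹ᵁ j.1).ι ≫ (Y.hom ⁻¹ᵁ i.1).ι) x : Y.left) ∈ _
          rw [pullback.condition]; exact (pullback.snd (Y.hom ⁻¹ᵁ i.1).ι (Y.hom ⁻¹ᵁ j.1).ι x).2
        obtain ⟨W, hW, hxW, hle⟩ := exists_isChart f U hU (Y.hom a) (i.1 ⊓ j.1) ⟨hai, haj⟩
        refine ⟨⟨W, hW⟩, homOfLE (hle.trans inf_le_left), homOfLE (hle.trans inf_le_right), ⟨a, hxW⟩, ?_⟩
        apply (pullback.fst _ _ ≫ (Y.hom ⁻¹ᵁ i.1).ι).isOpenEmbedding.injective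
        change (pullback.lift (Y.left.homOfLE (Y.hom.preimage_mono (hle.trans inf_le_left)))
          (Y.left.homOfLE (Y.hom.preimage_mono (hle.trans inf_le_right))) _ ≫
          pullback.fst (Y.hom ⁻¹ᵁ i.1).ι (Y.hom ⁻¹ᵁ j.1).ι ≫ (Y.hom ⁻¹ᵁ i.1).ι) _ = _
        erw [pullback.lift_fst_assoc, Scheme.homOfLE_ι]
        rfl
      property_trans := fun h => inferInstanceAs (IsOpenImmersion (Y.left.homOfLE _)) }
  let B : Y.left ⟶ Y'.left := 𝒱.glueMorphismsOfLocallyDirected b fun {i j} h =>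
    (existsUnique_good c hU hc i.2).choose_spec.2 _ ((hb j).mono c (leOfHom h))
  have hB : ∀ i, 𝒱.f i ≫ B = b i := fun i => Scheme.Cover.ι_glueMorphisms 𝒱 _ _ i
  have hBw : B ≫ Y'.hom = Y.hom := 𝒱.hom_ext _ _ fun i => by rw [reassoc_of% (hB i)]; exact (hb i).1
  refine ⟨MorphismProperty.Over.homMk B hBw, MorphismProperty.Over.Hom.ext ?_⟩
  apply pullback.hom_ext
  · refine (pullback.lift_fst _ _ _).trans ?_
    apply Scheme.Cover.hom_ext (𝒱.pullback₁ (pullback.fst Y.hom U.ι))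
    intro i
    show pullback.fst (pullback.fst Y.hom U.ι) (𝒱.f i) ≫ pullback.fst Y.hom U.ι ≫ B = _
    rw [pullback.condition_assoc, hB]
    have := (hb i).2 _ (pullback.snd (pullback.fst Y.hom U.ι) (𝒱.f i)) inferInstance
      (pullback.fst (pullback.fst Y.hom U.ι) (𝒱.f i) ≫ pullback.snd Y.hom U.ι) (by
        show (pullback.snd (pullback.fst Y.hom U.ι) (𝒱.f i) ≫ 𝒱.f i) ≫ Y.hom = _
        rw [← pullback.condition, Category.assoc, Category.assoc, pullback.condition])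
    rw [this]
    refine congrArg (· ≫ c) (pullback.hom_ext ?_ ?_)
    · rw [pullback.lift_fst]; exact pullback.condition.symm
    · rw [pullback.lift_snd]; rfl
  · exact (pullback.lift_snd _ _ _).trans hα.symm

end Groth.Agent.RelPurity2
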