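import Groth.Agent.RelPurity2.Chart
import Groth.Agent.FEtStein.AlgClosedEquiv
import Mathlib.AlgebraicGeometry.RelativeGluing

/-!
# Gluing extensions over charts
-/

set_option autoImplicit false
set_option linter.style.haveILetI false
set_option backward.isDefEq.respectTransparency.types false
set_option backward.isDefEq.respectTransparency false

universe u

open CategoryTheory CategoryTheory.Limits AlgebraicGeometry TopologicalSpace

namespace Groth.Agent.RelPurity2

variable {X S : Scheme.{u}} {f : X ⟶ S} {U : X.Opens} (V : FEt.Cat (U : Scheme.{u}))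

/-- The part of the cover over `W`. -/
noncomputable def part (W : X.Opens) : V.left.Opens := (V.hom ≫ U.ι) ⁻¹ᵁ W

theorem part_mono {W W' : X.Opens} (h : W ≤ W') : part V W ≤ part V W' :=
  (V.hom ≫ U.ι).preimage_mono h

/-- An extension of the cover to `W`. -/
structure Model (W : X.Opens) where
  E : Scheme.{u}
  π : E ⟶ (W : Scheme.{u})
  finite : IsFinite π
  etale : Etale π
  g : (part V W : Scheme.{u}) ⟶ E
  hg : IsPullback g ((part V W).ι ≫ V.hom) (π ≫ W.ι) U.ι

attribute [instance] Model.finite Model.etale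

variable {V}

theorem Model.g_π {W : X.Opens} (M : Model V W) : M.g ≫ M.π ≫ W.ι = (part V W).ι ≫ V.hom ≫ U.ι := by
  rw [M.hg.w, Category.assoc]

theorem Model.isOpenImmersion_g {W : X.Opens} (M : Model V W) : IsOpenImmersion M.g :=
  MorphismProperty.of_isPullback M.hg.flip inferInstance

variable [Smooth f]

theorem quasiCompact_ι {W : X.Opens} (hW : IsAffineOpen W) {O : (W : Scheme.{u}).Opens}
    (hO : IsCompact (O : Set (W : Scheme.{u}))) : QuasiCompact O.ι := by
  haveI : IsAffine (W : Scheme.{u}) := hW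
  haveI : CompactSpace (O : Scheme.{u}) := isCompact_iff_compactSpace.1 hO
  exact (quasiCompact_iff_compactSpace O.ι).2 inferInstance

theorem bij_chart {W : X.Opens} {O : (W : Scheme.{u}).Opens} (hc : Cond (W.ι ≫ f) O)
    (A : (W : Scheme.{u}).Opens) (hA : IsAffineOpen A) : Function.Bijective (O.ι.app A) :=
  bijective_ι_app (W.ι ≫ f) O hc hA

/-- Existence and uniqueness of morphisms of models. -/
theorem Model.existsUnique_hom (hU : Cond f U) {W W' : X.Opens} (hW : IsChart f U W) (h : W ≤ W')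
    (M : Model V W) (N : Model V W') :
    ∃! φ : M.E ⟶ N.E, φ ≫ N.π = M.π ≫ X.homOfLE h ∧
      M.g ≫ φ = V.left.homOfLE (part_mono V h) ≫ N.g := by
  obtain ⟨hWa, O, hOc, hOU, hcond, -⟩ := hW
  haveI := quasiCompact_ι hWa hOc
  haveI := M.isOpenImmersion_g
  let ℓ : pullback M.π O.ι ⟶ (U : Scheme.{u}) :=
    IsOpenImmersion.lift U.ι (pullback.snd M.π O.ι ≫ O.ι ≫ W.ι) (by
      rw [Scheme.Opens.range_ι]
      rintro - ⟨z, rfl⟩
      exact hOU (pullback.snd M.π O.ι z).2)
  have hℓ : ℓ ≫ U.ι = pullback.snd M.π O.ι ≫ O.ι ≫ W.ι := IsOpenImmersion.lift_fac _ _ _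
  let lam : pullback M.π O.ι ⟶ (part V W : Scheme.{u}) := M.hg.lift (pullback.fst M.π O.ι) ℓ (by
    rw [hℓ, pullback.condition_assoc])
  have hlam : lam ≫ M.g = pullback.fst M.π O.ι := M.hg.lift_fst _ _ _
  have hNg : V.left.homOfLE (part_mono V h) ≫ N.g ≫ N.π = M.g ≫ M.π ≫ X.homOfLE h := by
    rw [← cancel_mono W'.ι]
    simp only [Category.assoc, Scheme.homOfLE_ι]
    rw [N.g_π, M.g_π, Scheme.homOfLE_ι_assoc]
  obtain ⟨b, hb, hbc⟩ := FEtFF.FlatExtend.exists_hom O.ι (bij_chart hcond) N.π M.π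
    (M.π ≫ X.homOfLE h) (lam ≫ V.left.homOfLE (part_mono V h) ≫ N.g) (by
      simp only [Category.assoc]
      rw [hNg, reassoc_of% hlam])
  refine ⟨b, ⟨hb, ?_⟩, ?_⟩
  · let hP := M.g ≫ M.π
    haveI : Etale M.g := inferInstance
    haveI : Flat hP := inferInstanceAs (Flat (M.g ≫ M.π))
    let κ : pullback hP O.ι ⟶ pullback M.π O.ι :=
      pullback.lift (pullback.fst hP O.ι ≫ M.g) (pullback.snd hP O.ι) (by
        rw [Category.assoc]; exact pullback.condition)
    have hκ : κ ≫ lam = pullback.fst hP O.ι := by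
      rw [← cancel_mono M.g, Category.assoc, hlam]
      exact pullback.lift_fst _ _ _
    refine FEtFF.FlatExtend.hom_ext O.ι (bij_chart hcond) N.π hP (hP ≫ X.homOfLE h) _ _ ?_ ?_ ?_
    · rw [Category.assoc, hb]; exact (Category.assoc _ _ _).symm
    · rw [Category.assoc, hNg]; exact (Category.assoc _ _ _).symm
    · calc pullback.fst hP O.ι ≫ M.g ≫ b = κ ≫ pullback.fst M.π O.ι ≫ b := by
            rw [← Category.assoc, ← Category.assoc, pullback.lift_fst]
        _ = _ := by rw [hbc, reassoc_of% hκ]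
  · rintro b' ⟨hb', hgb'⟩
    refine FEtFF.FlatExtend.hom_ext O.ι (bij_chart hcond) N.π M.π (M.π ≫ X.homOfLE h) _ _ hb' hb ?_
    rw [hbc, ← hgb', reassoc_of% hlam]

/-- The restriction of a model. -/
noncomputable def Model.restrict {W W' : X.Opens} (N : Model V W') (h : W ≤ W') : Model V W where
  E := pullback N.π (X.homOfLE h)
  π := pullback.snd _ _
  finite := MorphismProperty.pullback_snd _ _ N.finite
  etale := MorphismProperty.pullback_snd _ _ N.etale
  g := pullback.lift (V.left.homOfLE (part_mono V h) ≫ N.g)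
    (IsOpenImmersion.lift W.ι ((part V W).ι ≫ V.hom ≫ U.ι) (by
      rw [Scheme.Opens.range_ι]; rintro - ⟨z, rfl⟩; exact z.2)) (by
    rw [← cancel_mono W'.ι]
    simp only [Category.assoc, Scheme.homOfLE_ι]
    rw [N.g_π, IsOpenImmersion.lift_fac, Scheme.homOfLE_ι_assoc])
  hg := by
    let e := pullback.fst N.π (X.homOfLE h)
    have key : e ≫ N.π ≫ W'.ι = pullback.snd N.π (X.homOfLE h) ≫ W.ι := by
      rw [← Category.assoc, pullback.condition, Category.assoc, Scheme.homOfLE_ι]
    haveI : IsOpenImmersion N.g := N.isOpenImmersion_g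
    haveI : IsOpenImmersion e := inferInstance
    refine ⟨⟨by rw [pullback.lift_snd_assoc, IsOpenImmersion.lift_fac, Category.assoc]⟩,
      ⟨PullbackCone.IsLimit.mk _ (fun t => IsOpenImmersion.lift (part V W).ι
        (N.hg.lift (t.fst ≫ e) t.snd (by rw [Category.assoc, key]; exact t.condition) ≫ (part V W').ι) ?_)
        (fun t => ?_) (fun t => ?_) (fun t m h1 h2 => ?_)⟩⟩
    · rw [Scheme.Opens.range_ι]
      rintro - ⟨z, rfl⟩
      have hh : ((N.hg.lift (t.fst ≫ e) t.snd (by rw [Category.assoc, key]; exact t.condition)) ≫ (part V W').ι) ≫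
          V.hom ≫ U.ι = (t.fst ≫ pullback.snd N.π (X.homOfLE h)) ≫ W.ι := by
        have hw := N.hg.lift_snd (t.fst ≫ e) t.snd (by rw [Category.assoc, key]; exact t.condition)
        rw [Category.assoc, ← Category.assoc (part V W').ι, ← Category.assoc (N.hg.lift _ _ _), hw,
          ← t.condition, Category.assoc]
      show (((N.hg.lift (t.fst ≫ e) t.snd _) ≫ (part V W').ι) ≫ V.hom ≫ U.ι) z ∈ W
      rw [hh]
      exact ((t.fst ≫ pullback.snd N.π (X.homOfLE h)) z).2
    · rw [← cancel_mono e, Category.assoc, pullback.lift_fst]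
      refine (Category.assoc _ _ _).symm.trans ((congrArg (· ≫ N.g) ?_).trans (N.hg.lift_fst (t.fst ≫ e) t.snd (by rw [Category.assoc, key]; exact t.condition)))
      rw [← cancel_mono (part V W').ι, Category.assoc, Scheme.homOfLE_ι, IsOpenImmersion.lift_fac]
    · rw [IsOpenImmersion.lift_fac_assoc, Category.assoc, N.hg.lift_snd]
    · rw [← cancel_mono (part V W).ι, IsOpenImmersion.lift_fac]
      have h3 : m ≫ V.left.homOfLE (part_mono V h) = N.hg.lift (t.fst ≫ e) t.snd (by
          rw [Category.assoc, key]; exact t.condition) := by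
        rw [← cancel_mono N.g, Category.assoc, N.hg.lift_fst, ← h1, Category.assoc, pullback.lift_fst]
      rw [← h3, Category.assoc, Scheme.homOfLE_ι]

/-- A model on a chart. -/
theorem exists_model (hU : Cond f U) {W : X.Opens} (hW : IsChart f U W) : Nonempty (Model V W) := by
  obtain ⟨hWa, O, hOc, hOU, hcond, hess⟩ := hW
  haveI := quasiCompact_ι hWa hOc
  let l : (O : Scheme.{u}) ⟶ (U : Scheme.{u}) := IsOpenImmersion.lift U.ι (O.ι ≫ W.ι) (by
    rw [Scheme.Opens.range_ι]; rintro - ⟨z, rfl⟩; exact hOU z.2)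
  have hl : l ≫ U.ι = O.ι ≫ W.ι := IsOpenImmersion.lift_fac _ _ _
  haveI := hess
  let E₀ := (FEt.restrict O.ι).objPreimage ((FEt.restrict l).obj V)
  let e₀ := (FEt.restrict O.ι).objObjPreimageIso ((FEt.restrict l).obj V)
  let π : E₀.left ⟶ (W : Scheme.{u}) := E₀.hom
  haveI : IsFinite π := E₀.prop.1
  haveI : Etale π := E₀.prop.2
  haveI : IsFinite V.hom := V.prop.1
  haveI : Etale V.hom := V.prop.2
  let eh : pullback π O.ι ⟶ pullback V.hom l := e₀.hom.left
  let ei : pullback V.hom l ⟶ pullback π O.ι := e₀.inv.left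
  have he₁ : eh ≫ ei = 𝟙 _ := congrArg (fun k => k.left) e₀.hom_inv_id
  have hehs : eh ≫ pullback.snd V.hom l = pullback.snd π O.ι := FEtQuot.hom_w e₀.hom
  have heis : ei ≫ pullback.snd π O.ι = pullback.snd V.hom l := FEtQuot.hom_w e₀.inv
  let hP : (part V W : Scheme.{u}) ⟶ (W : Scheme.{u}) :=
    IsOpenImmersion.lift W.ι ((part V W).ι ≫ V.hom ≫ U.ι) (by
      rw [Scheme.Opens.range_ι]; rintro - ⟨z, rfl⟩; exact z.2)
  have hhP : hP ≫ W.ι = (part V W).ι ≫ V.hom ≫ U.ι := IsOpenImmersion.lift_fac _ _ _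
  haveI : Flat hP := by
    haveI : Flat (hP ≫ W.ι) := by rw [hhP]; infer_instance
    exact MorphismProperty.of_postcomp (W := @Flat) (W' := @IsOpenImmersion) hP W.ι inferInstance ‹Flat (hP ≫ W.ι)›
  let τ₁ : pullback hP O.ι ⟶ pullback V.hom l :=
    pullback.lift (pullback.fst hP O.ι ≫ (part V W).ι) (pullback.snd hP O.ι) (by
      rw [← cancel_mono U.ι]
      simp only [Category.assoc]
      rw [hl, ← hhP, pullback.condition_assoc])
  obtain ⟨g, hgπ, hgc⟩ := FEtFF.FlatExtend.exists_hom O.ι (bij_chart hcond) π hP hP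
    (τ₁ ≫ ei ≫ pullback.fst π O.ι) (by
      rw [Category.assoc, Category.assoc, pullback.condition, ← Category.assoc ei, heis]
      rw [← Category.assoc τ₁, pullback.lift_snd, pullback.condition])
  let EU := pullback (π ≫ W.ι) U.ι
  let hE : EU ⟶ (W : Scheme.{u}) := pullback.fst (π ≫ W.ι) U.ι ≫ π
  haveI : Flat hE := inferInstanceAs (Flat (pullback.fst (π ≫ W.ι) U.ι ≫ π))
  let κ : (part V W : Scheme.{u}) ⟶ EU := pullback.lift g ((part V W).ι ≫ V.hom) (by
    rw [reassoc_of% hgπ, hhP, Category.assoc])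
  let τ₂ : pullback hE O.ι ⟶ pullback π O.ι :=
    pullback.lift (pullback.fst hE O.ι ≫ pullback.fst _ _) (pullback.snd hE O.ι) (by
      rw [Category.assoc]; exact pullback.condition)
  have hUsnd : pullback.snd hE O.ι ≫ l = pullback.fst hE O.ι ≫ pullback.snd (π ≫ W.ι) U.ι := by
    rw [← cancel_mono U.ι]
    simp only [Category.assoc]
    rw [hl, ← pullback.condition_assoc, ← pullback.condition]
    simp [hE]
  obtain ⟨b, hbV, hbc⟩ := FEtFF.FlatExtend.exists_hom O.ι (bij_chart hcond) V.hom hE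
    (pullback.snd (π ≫ W.ι) U.ι) (τ₂ ≫ eh ≫ pullback.fst V.hom l) (by
      rw [Category.assoc, Category.assoc, pullback.condition, ← Category.assoc eh, hehs,
        ← Category.assoc τ₂, pullback.lift_snd, hUsnd])
  let b' : EU ⟶ (part V W : Scheme.{u}) := IsOpenImmersion.lift (part V W).ι b (by
    rw [Scheme.Opens.range_ι]
    rintro - ⟨z, rfl⟩
    show (V.hom ≫ U.ι) (b z) ∈ W
    rw [← Scheme.Hom.comp_apply, ← Category.assoc, hbV, ← pullback.condition]
    exact (π (pullback.fst (π ≫ W.ι) U.ι z)).2)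
  have hb' : b' ≫ (part V W).ι = b := IsOpenImmersion.lift_fac _ _ _
  have hb'P : b' ≫ hP = hE := by
    rw [← cancel_mono W.ι, Category.assoc, hhP, reassoc_of% hb', reassoc_of% hbV, ← pullback.condition,
      Category.assoc]
  have hκE : κ ≫ hE = hP := by
    show κ ≫ pullback.fst _ _ ≫ π = hP
    rw [pullback.lift_fst_assoc, hgπ]
  have i1 : κ ≫ b' = 𝟙 _ := by
    rw [← cancel_mono (part V W).ι, Category.assoc, hb', Category.id_comp]
    refine FEtFF.FlatExtend.hom_ext O.ι (bij_chart hcond) V.hom hP ((part V W).ι ≫ V.hom) _ _ ?_ rfl ?_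
    · rw [Category.assoc, hbV, pullback.lift_snd]
    · let μ : pullback hP O.ι ⟶ pullback hE O.ι :=
        pullback.lift (pullback.fst hP O.ι ≫ κ) (pullback.snd hP O.ι) (by
          rw [Category.assoc, hκE]; exact pullback.condition)
      have hμ : μ ≫ τ₂ = τ₁ ≫ ei := by
        apply pullback.hom_ext
        · rw [Category.assoc, pullback.lift_fst, pullback.lift_fst_assoc, Category.assoc, pullback.lift_fst,
            hgc, Category.assoc]
        · rw [Category.assoc, pullback.lift_snd, pullback.lift_snd, Category.assoc, heis, pullback.lift_snd]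
      calc pullback.fst hP O.ι ≫ κ ≫ b = μ ≫ pullback.fst hE O.ι ≫ b := by
            rw [← Category.assoc, ← Category.assoc, pullback.lift_fst]
        _ = τ₁ ≫ (ei ≫ eh) ≫ pullback.fst V.hom l := by rw [hbc, reassoc_of% hμ, Category.assoc]
        _ = pullback.fst hP O.ι ≫ (part V W).ι := by
            rw [show ei ≫ eh = 𝟙 _ from congrArg (fun k => k.left) e₀.inv_hom_id, Category.id_comp, pullback.lift_fst]
  have i2 : b' ≫ κ = 𝟙 _ := by
    apply pullback.hom_ext
    · rw [Category.assoc, pullback.lift_fst, Category.id_comp]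
      refine FEtFF.FlatExtend.hom_ext O.ι (bij_chart hcond) π hE hE _ _ ?_ rfl ?_
      · rw [Category.assoc, hgπ, hb'P]
      · let ν : pullback hE O.ι ⟶ pullback hP O.ι :=
          pullback.lift (pullback.fst hE O.ι ≫ b') (pullback.snd hE O.ι) (by
            rw [Category.assoc, hb'P]; exact pullback.condition)
        have hν : ν ≫ τ₁ = τ₂ ≫ eh := by
          apply pullback.hom_ext
          · rw [Category.assoc, pullback.lift_fst, pullback.lift_fst_assoc, Category.assoc, hb', hbc, Category.assoc]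
          · rw [Category.assoc, pullback.lift_snd, pullback.lift_snd, Category.assoc, hehs, pullback.lift_snd]
        calc pullback.fst hE O.ι ≫ b' ≫ g = ν ≫ pullback.fst hP O.ι ≫ g := by
              rw [← Category.assoc, ← Category.assoc, pullback.lift_fst]
          _ = τ₂ ≫ (eh ≫ ei) ≫ pullback.fst π O.ι := by rw [hgc, reassoc_of% hν, Category.assoc]
          _ = pullback.fst hE O.ι ≫ pullback.fst (π ≫ W.ι) U.ι := by
              rw [he₁, Category.id_comp, pullback.lift_fst]
    · rw [Category.assoc, pullback.lift_snd, Category.id_comp, reassoc_of% hb', hbV]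
  exact ⟨⟨E₀.left, π, inferInstance, inferInstance, g,
    IsPullback.of_iso_pullback ⟨by rw [reassoc_of% hgπ, hhP, Category.assoc]⟩ ⟨κ, b', i1, i2⟩
      (pullback.lift_fst _ _ _) (pullback.lift_snd _ _ _)⟩⟩

variable (hU : Cond f U)

/-- The index type of charts. -/
abbrev Charts (f : X ⟶ S) (U : X.Opens) := {W : X.Opens // IsChart f U W}

include hU

theorem exists_extension (V : FEt.Cat (U : Scheme.{u})) :
    ∃ Y : FEt.Cat X, Nonempty ((FEt.restrict U.ι).obj Y ≅ V) := by
  let M : ∀ i : Charts f U, Model V i.1 := fun i => (exists_model hU i.2).some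
  have huniq : ∀ {i j : Charts f U} (h : i ≤ j), ∃! φ : (M i).E ⟶ (M j).E,
      φ ≫ (M j).π = (M i).π ≫ X.homOfLE h ∧ (M i).g ≫ φ = V.left.homOfLE (part_mono V h) ≫ (M j).g :=
    fun {i j} h => Model.existsUnique_hom hU i.2 h (M i) (M j)
  let φ : ∀ {i j : Charts f U}, i ≤ j → ((M i).E ⟶ (M j).E) := fun h => (huniq h).choose
  have hφ : ∀ {i j : Charts f U} (h : i ≤ j), φ h ≫ (M j).π = (M i).π ≫ X.homOfLE h ∧
      (M i).g ≫ φ h = V.left.homOfLE (part_mono V h) ≫ (M j).g := fun h => (huniq h).choose_spec.1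
  have hφu : ∀ {i j : Charts f U} (h : i ≤ j) (ψ : (M i).E ⟶ (M j).E), ψ ≫ (M j).π = (M i).π ≫ X.homOfLE h →
      (M i).g ≫ ψ = V.left.homOfLE (part_mono V h) ≫ (M j).g → ψ = φ h :=
    fun h ψ h1 h2 => (huniq h).choose_spec.2 ψ ⟨h1, h2⟩
  have hpb : ∀ {i j : Charts f U} (h : i ≤ j), IsPullback (φ h) (M i).π (M j).π (X.homOfLE h) := by
    intro i j h
    let R := (M j).restrict (show i.1 ≤ j.1 from h)
    obtain ⟨a, ⟨ha, ha'⟩, -⟩ := Model.existsUnique_hom hU i.2 (le_refl i.1) (M i) R
    obtain ⟨a₂, ⟨ha₂, ha₂'⟩, -⟩ := Model.existsUnique_hom hU i.2 (le_refl i.1) R (M i)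
    simp only [Scheme.homOfLE_rfl, Category.id_comp, Category.comp_id] at ha ha' ha₂ ha₂'
    have i1 : a ≫ a₂ = 𝟙 _ := (Model.existsUnique_hom hU i.2 (le_refl i.1) (M i) (M i)).unique
      ⟨by simp [ha, ha₂], by simp [reassoc_of% ha', ha₂']⟩ ⟨by simp, by simp⟩
    have i2 : a₂ ≫ a = 𝟙 _ := (Model.existsUnique_hom hU i.2 (le_refl i.1) R R).unique
      ⟨by simp [ha, ha₂], by simp [reassoc_of% ha₂', ha']⟩ ⟨by simp, by simp⟩
    have h3 : φ h = a ≫ pullback.fst (M j).π (X.homOfLE h) := by
      refine (hφu h _ ?_ ?_).symm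
      · rw [Category.assoc, pullback.condition, ← Category.assoc]
        exact congrArg (· ≫ X.homOfLE h) ha
      · rw [← Category.assoc, ha']
        exact pullback.lift_fst _ _ _
    exact IsPullback.of_iso_pullback ⟨(hφ h).1⟩ ⟨a, a₂, i1, i2⟩ h3.symm ha
  let 𝒰 : X.OpenCover :=
    { I₀ := Charts f U
      X := fun i => i.1.toScheme
      f := fun i => i.1.ι
      mem₀ := by
        rw [Scheme.presieve₀_mem_precoverage_iff]
        refine ⟨fun x => ?_, inferInstance⟩
        obtain ⟨W, hW, hx, -⟩ := exists_isChart f U hU x ⊤ trivial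
        exact ⟨⟨W, hW⟩, ⟨x, hx⟩, rfl⟩ }
  letI : Preorder 𝒰.I₀ := inferInstanceAs (Preorder (Charts f U))
  letI : 𝒰.LocallyDirected :=
    Scheme.Cover.LocallyDirected.ofIsBasisOpensRange
      (fun {i j} => by simp only [𝒰, Scheme.Opens.opensRange_ι]; rfl) (by
        refine Opens.isBasis_iff_nbhd.2 fun {O x} hx => ?_
        obtain ⟨W, hW, hxW, hle⟩ := exists_isChart f U hU x O hx
        exact ⟨W, ⟨⟨W, hW⟩, W.opensRange_ι⟩, hxW, hle⟩)
  have htr : ∀ {i j : 𝒰.I₀} (h : i ⟶ j), 𝒰.trans h = X.homOfLE (leOfHom h) := fun {i j} h => by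
    rw [← cancel_mono (𝒰.f j), 𝒰.trans_map]
    exact (X.homOfLE_ι _).symm
  let d : 𝒰.RelativeGluingData :=
    { functor :=
        { obj := fun i => (M i).E
          map := fun h => φ (leOfHom h)
          map_id := fun i => (hφu _ _ (by simp) (by simp)).symm
          map_comp := fun {i j k} h h' => (hφu _ _
            (by rw [Category.assoc, (hφ _).1, ← Category.assoc, (hφ _).1, Category.assoc, Scheme.homOfLE_homOfLE])
            (by rw [← Category.assoc, (hφ _).2, Category.assoc, (hφ _).2, ← Category.assoc,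
              Scheme.homOfLE_homOfLE])).symm }
      natTrans :=
        { app := fun i => (M i).π
          naturality := fun i j h => by
            show φ (leOfHom h) ≫ (M j).π = (M i).π ≫ 𝒰.trans h
            rw [htr]; exact (hφ _).1 }
      equifibered := fun i j h => by
        show IsPullback (φ (leOfHom h)) (M i).π (M j).π (𝒰.trans h)
        rw [htr]; exact hpb _ }
  haveI : Quiver.IsThin 𝒰.I₀ := inferInstanceAs (Quiver.IsThin (Charts f U))
  let t : d.glued ⟶ X := d.toBase
  have sqi : ∀ i : 𝒰.I₀, IsPullback (d.cover.f i) (M i).π t (𝒰.f i) :=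
    fun i => (d.isPullback_natTrans_ι_toBase i).flip
  haveI : IsFinite t := IsZariskiLocalAtTarget.of_openCover 𝒰 fun i =>
    (MorphismProperty.cancel_left_of_respectsIso @IsFinite
      ((sqi i).isoPullback).hom _).1 (by
        show IsFinite ((sqi i).isoPullback.hom ≫ pullback.snd t (𝒰.f i))
        rw [IsPullback.isoPullback_hom_snd]; exact (M i).finite)
  haveI : Etale t := IsZariskiLocalAtTarget.of_openCover 𝒰 fun i =>
    (MorphismProperty.cancel_left_of_respectsIso @Etale
      ((sqi i).isoPullback).hom _).1 (by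
        show Etale ((sqi i).isoPullback.hom ≫ pullback.snd t (𝒰.f i))
        rw [IsPullback.isoPullback_hom_snd]; exact (M i).etale)
  let Y : FEt.Cat X := MorphismProperty.Over.mk ⊤ t ⟨inferInstance, inferInstance⟩
  refine ⟨Y, ?_⟩
  let ch : ∀ i : 𝒰.I₀, (M i).E ⟶ d.glued := fun i => d.cover.f i
  have hch : ∀ i, ch i ≫ t = (M i).π ≫ i.1.ι := fun i => (sqi i).w
  have hchw : ∀ {i j : 𝒰.I₀} (h : i ⟶ j), φ (leOfHom h) ≫ ch j = ch i := fun h => Scheme.Cover.trans_map d.cover h
  let EU := pullback t U.ι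
  let κi : ∀ i : 𝒰.I₀, (part V i.1 : Scheme.{u}) ⟶ EU := fun i =>
    pullback.lift ((M i).g ≫ ch i) ((part V i.1).ι ≫ V.hom) (by
      rw [Category.assoc, hch, (M i).g_π, Category.assoc])
  let 𝒱 : V.left.OpenCover :=
    { I₀ := Charts f U
      X := fun i => (part V i.1).toScheme
      f := fun i => (part V i.1).ι
      mem₀ := by
        rw [Scheme.presieve₀_mem_precoverage_iff]
        refine ⟨fun x => ?_, inferInstance⟩
        obtain ⟨W, hW, hx, -⟩ := exists_isChart f U hU ((V.hom ≫ U.ι) x) ⊤ trivial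
        exact ⟨⟨W, hW⟩, ⟨x, hx⟩, rfl⟩ }
  letI : Preorder 𝒱.I₀ := inferInstanceAs (Preorder (Charts f U))
  letI : 𝒱.LocallyDirected :=
    { trans := fun h => V.left.homOfLE (part_mono V (leOfHom h))
      trans_id := fun i => V.left.homOfLE_rfl _
      trans_comp := fun h h' => (V.left.homOfLE_homOfLE _ _).symm
      w := fun h => V.left.homOfLE_ι _
      directed := fun {i j} x => by
        let a : V.left := (pullback.fst _ _ ≫ (part V i.1).ι) x
        have hai : a ∈ part V i.1 := (pullback.fst (part V i.1).ι (part V j.1).ι x).2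
        have haj : a ∈ part V j.1 := by
          show ((pullback.fst (part V i.1).ι (part V j.1).ι ≫ (part V i.1).ι) x : V.left) ∈ _
          rw [pullback.condition]; exact (pullback.snd (part V i.1).ι (part V j.1).ι x).2
        obtain ⟨W, hW, hxW, hle⟩ := exists_isChart f U hU ((V.hom ≫ U.ι) a) (i.1 ⊓ j.1) ⟨hai, haj⟩
        refine ⟨⟨W, hW⟩, homOfLE (hle.trans inf_le_left), homOfLE (hle.trans inf_le_right), ⟨a, hxW⟩, ?_⟩
        apply (pullback.fst _ _ ≫ (part V i.1).ι).isOpenEmbedding.injective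
        change (pullback.lift (V.left.homOfLE (part_mono V (hle.trans inf_le_left)))
          (V.left.homOfLE (part_mono V (hle.trans inf_le_right))) _ ≫
          pullback.fst (part V i.1).ι (part V j.1).ι ≫ (part V i.1).ι) _ = _
        rw [pullback.lift_fst_assoc, Scheme.homOfLE_ι]
        rfl
      property_trans := fun h => inferInstanceAs (IsOpenImmersion (V.left.homOfLE _)) }
  let κ : V.left ⟶ EU := 𝒱.glueMorphismsOfLocallyDirected κi fun {i j} h => by
    show V.left.homOfLE (part_mono V (leOfHom h)) ≫ κi j = κi i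
    apply pullback.hom_ext
    · rw [Category.assoc, pullback.lift_fst, ← Category.assoc, ← (hφ (leOfHom h)).2, Category.assoc,
        hchw (i := i) (j := j) h, pullback.lift_fst]
    · rw [Category.assoc, pullback.lift_snd, pullback.lift_snd, Scheme.homOfLE_ι_assoc]
  have hκi : ∀ i : 𝒰.I₀, (part V i.1).ι ≫ κ = κi i := fun i => Scheme.Cover.ι_glueMorphisms 𝒱 _ _ i
  have hκs : κ ≫ pullback.snd t U.ι = V.hom := 𝒱.hom_ext _ _ fun i => by
    show (part V i.1).ι ≫ κ ≫ _ = (part V i.1).ι ≫ V.hom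
    rw [reassoc_of% (hκi i), pullback.lift_snd]
  haveI hoi : ∀ i, IsOpenImmersion (ch i) := fun i => d.cover.map_prop i
  let cW : ∀ i : 𝒰.I₀, pullback ((M i).π ≫ i.1.ι) U.ι ⟶ EU := fun i =>
    pullback.map _ _ _ _ (ch i) (𝟙 _) (𝟙 _) (by rw [Category.comp_id, hch]) (by simp)
  haveI : IsIso κ := by
    let 𝒲 : EU.OpenCover :=
      { I₀ := Charts f U
        X := fun i => pullback ((M i).π ≫ i.1.ι) U.ι
        f := cW
        mem₀ := by
          rw [Scheme.presieve₀_mem_precoverage_iff]
          refine ⟨fun z => ?_, fun i => inferInstanceAs (IsOpenImmersion (cW i))⟩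
          obtain ⟨i, w, hw⟩ := d.cover.exists_eq (pullback.fst t U.ι z)
          refine ⟨i, ?_⟩
          show z ∈ Set.range (cW i)
          rw [Scheme.Pullback.range_map]
          exact ⟨⟨w, hw⟩, ⟨pullback.snd t U.ι z, rfl⟩⟩ }
    refine IsZariskiLocalAtTarget.of_openCover (P := MorphismProperty.isomorphisms Scheme.{u}) 𝒲 fun i => ?_
    let e := (M i).hg.isoPullback
    have hec : e.hom ≫ cW i = (part V i.1).ι ≫ κ := by
      rw [hκi]
      apply pullback.hom_ext <;> simp [cW, κi, e]
    have H : IsPullback e.hom (part V i.1).ι (cW i) κ := by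
      refine IsOpenImmersion.isPullback _ _ _ _ hec.symm ?_
      rw [Scheme.Opens.opensRange_ι]
      ext x
      constructor
      · rintro ⟨w, hw⟩
        show (V.hom ≫ U.ι) x ∈ i.1
        have h1 : (V.hom ≫ U.ι) x = (pullback.fst t U.ι ≫ t) (κ x) := by
          show (V.hom ≫ U.ι) x = (κ ≫ pullback.fst t U.ι ≫ t) x
          rw [pullback.condition, reassoc_of% hκs]
          rfl
        rw [h1, ← hw, ← Scheme.Hom.comp_apply]
        have h2 : cW i ≫ pullback.fst t U.ι ≫ t = (pullback.fst _ _ ≫ (M i).π) ≫ i.1.ι := by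
          simp [cW, hch]
        rw [h2]
        exact ((pullback.fst _ _ ≫ (M i).π) w).2
      · intro hx
        refine ⟨e.hom ⟨x, hx⟩, ?_⟩
        rw [← Scheme.Hom.comp_apply, hec]
        rfl
    show IsIso (pullback.snd κ (cW i))
    have := H.flip.isoPullback_hom_snd
    rw [(Iso.eq_inv_comp _).2 this]
    infer_instance
  exact ⟨(MorphismProperty.Over.isoMk (asIso κ) hκs).symm⟩

end Groth.Agent.RelPurity2
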