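import Mathlib.RingTheory.Smooth.NoetherianDescent

/-!
# Models of standard smooth algebras over finitely generated subrings
-/

set_option autoImplicit false
set_option linter.style.haveILetI false

universe u

open scoped TensorProduct

namespace Groth.Agent.RelPurity2

variable {n : ℕ}

/-- A standard smooth algebra, with finitely many given elements, comes from a finitely generated subring. -/
theorem exists_model_ring {A B : Type u} [CommRing A] [CommRing B] [Algebra A B]
    [Algebra.IsStandardSmoothOfRelativeDimension n A B] (gs : Finset B) :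
    ∃ s : Finset A, ∀ A₀ : Subalgebra ℤ A, (↑s ⊆ (A₀ : Set A)) →
      ∃ (B₀ : Type u) (_ : CommRing B₀) (_ : Algebra A₀ B₀),
      Algebra.IsStandardSmoothOfRelativeDimension n A₀ B₀ ∧
      ∃ e : A ⊗[A₀] B₀ ≃ₐ[A] B, ∀ b ∈ gs, ∃ x : B₀, e ((1 : A) ⊗ₜ[A₀] x) = b := by
  classical
  obtain ⟨ι, σ, _, _, P, hP⟩ := Algebra.IsStandardSmoothOfRelativeDimension.out (n := n) (R := A) (S := B)
  choose g hg using fun b : B => P.algebraMap_surjective b
  refine ⟨P.finite_coeffs.toFinset ∪ gs.biUnion fun b => (g b).coeffs, fun A₀ hsub => ?_⟩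
  haveI hA₀ : P.HasCoeffs A₀ := ⟨fun a ha => ⟨⟨a, hsub (Finset.mem_coe.2
    (Finset.mem_union_left _ (P.finite_coeffs.mem_toFinset.2 ha)))⟩, rfl⟩⟩
  haveI : P.toPresentation.HasCoeffs A₀ := inferInstance
  refine ⟨(P.ModelOfHasCoeffs A₀ :), inferInstance, inferInstance,
    ⟨_, _, _, inferInstance, P.ofHasCoeffs A₀, hP⟩, P.tensorModelOfHasCoeffsEquiv A₀, fun b hb => ?_⟩
  obtain ⟨p, hp⟩ := (MvPolynomial.mem_range_map_iff_coeffs_subset (f := algebraMap A₀ A) (x := g b)).2
    fun a ha => ⟨⟨a, hsub (Finset.mem_coe.2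
      (Finset.mem_union_right _ (Finset.mem_biUnion.2 ⟨b, hb, ha⟩)))⟩, rfl⟩
  refine ⟨Ideal.Quotient.mk _ p, ?_⟩
  refine (P.tensorModelOfHasCoeffsEquiv_tmul A₀ 1 p).trans ?_
  rw [map_one, one_mul, ← MvPolynomial.aeval_map_algebraMap A, hp]
  exact (P.toPresentation.toGenerators.algebraMap_apply (g b)).symm.trans (hg b)

end Groth.Agent.RelPurity2
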