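import Groth.Agent.RelPurity2.FibreCond
import Groth.Agent.RelPurity2.ModelRing
import Groth.Agent.FEtQuot.FieldLimit
import Groth.Agent.FEtStein.AlgClosedEquiv
import Groth.Agent.H8Lim.BaseChange
import Groth.Agent.H8Lim.NoetherianModel

/-!
# Essential surjectivity on a chart with a Noetherian model
-/

set_option autoImplicit false
set_option linter.style.haveILetI false
set_option backward.isDefEq.respectTransparency.types false
set_option backward.isDefEq.respectTransparency false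

universe u

open CategoryTheory CategoryTheory.Limits AlgebraicGeometry TopologicalSpace IsLocalRing Opposite
open scoped TensorProduct

namespace Groth.Agent.RelPurity2

open EGA43.FibDepth (trd trdLocus)

/-- The open complement of the zero locus of an ideal. -/
def Dc {R : Type u} [CommRing R] (J : Ideal R) : (Spec (CommRingCat.of R)).Opens :=
  ⟨(PrimeSpectrum.zeroLocus (J : Set R))ᶜ, (PrimeSpectrum.isClosed_zeroLocus _).isOpen_compl⟩

theorem mem_Dc {R : Type u} [CommRing R] (J : Ideal R) (q : PrimeSpectrum R) : q ∈ Dc J ↔ ¬ J ≤ q.asIdeal :=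
  Iff.rfl

theorem isPullback_tensor (R S T : Type u) [CommRing R] [CommRing S] [CommRing T] [Algebra R S] [Algebra R T] :
    IsPullback (Spec.map (CommRingCat.ofHom (Algebra.TensorProduct.includeRight (R := R) (A := S) (B := T)).toRingHom))
      (Spec.map (CommRingCat.ofHom (algebraMap S (S ⊗[R] T))))
      (Spec.map (CommRingCat.ofHom (algebraMap R T))) (Spec.map (CommRingCat.ofHom (algebraMap R S))) := by
  refine (IsPullback.of_hasPullback (Spec.map (CommRingCat.ofHom (algebraMap R S)))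
    (Spec.map (CommRingCat.ofHom (algebraMap R T)))).flip.of_iso (pullbackSpecIso R S T) (Iso.refl _) (Iso.refl _)
    (Iso.refl _) ?_ ?_ ?_ ?_
  all_goals simp [← cancel_epi (pullbackSpecIso R S T).inv]

variable {A : Type u} [CommRing A] {s : Finset A} {B₀ : Type u} [CommRing B₀]
  [Algebra (H8Lim.fgSub A s) B₀] {n : ℕ}

/-- A neighbourhood in the model on which the complement has small fibre dimension. -/
theorem exists_good_nhd [Algebra.FiniteType (H8Lim.fgSub A s) B₀] (J₀ : Ideal B₀)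
    (h : ∀ q : PrimeSpectrum (A ⊗[H8Lim.fgSub A s] B₀),
      J₀.map (Algebra.TensorProduct.includeRight (R := H8Lim.fgSub A s) (A := A) (B := B₀)).toRingHom ≤ q.asIdeal →
        trd A q + 2 ≤ n) :
    ∃ W₀ : (Spec (CommRingCat.of B₀)).Opens,
      (∀ q : PrimeSpectrum (A ⊗[H8Lim.fgSub A s] B₀),
        PrimeSpectrum.comap (Algebra.TensorProduct.includeRight (R := H8Lim.fgSub A s) (A := A) (B := B₀)).toRingHom q ∈ W₀) ∧
      ∀ q : PrimeSpectrum B₀, q ∈ W₀ → J₀ ≤ q.asIdeal → trd (H8Lim.fgSub A s) q + 2 ≤ n := by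
  by_cases hn : 2 ≤ n
  · refine ⟨⟨_, isOpen_trdLocus_zeroLocus (A := H8Lim.fgSub A s) J₀ (n - 2)⟩, fun q => ?_, fun q hq hJ => ?_⟩
    · show q ∈ PrimeSpectrum.comap (Algebra.TensorProduct.includeRight (R := H8Lim.fgSub A s) (A := A) (B := B₀)).toRingHom ⁻¹'
        trdLocus (H8Lim.fgSub A s) (PrimeSpectrum.zeroLocus (J₀ : Set B₀)) (n - 2)
      rw [← EGA43.FibDepth.trdLocus_baseChange]
      intro q' _ _ hZ
      have := h q' (Ideal.map_le_iff_le_comap.2 hZ)
      omega
    · have := hq q le_rfl rfl hJ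
      omega
  · refine ⟨Dc J₀, fun q hq => ?_, fun q hq hJ => absurd hJ hq⟩
    have := h q (Ideal.map_le_iff_le_comap.2 hq)
    omega

/-- Essential surjectivity on a chart with a model. -/
theorem essSurj_model [Algebra.IsStandardSmoothOfRelativeDimension n (H8Lim.fgSub A s) B₀] (J₀ : Ideal B₀)
    (h : ∀ q : PrimeSpectrum (A ⊗[H8Lim.fgSub A s] B₀),
      J₀.map (Algebra.TensorProduct.includeRight (R := H8Lim.fgSub A s) (A := A) (B := B₀)).toRingHom ≤ q.asIdeal →
        trd A q + 2 ≤ n) :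
    (FEt.restrict (Dc (J₀.map (Algebra.TensorProduct.includeRight
      (R := H8Lim.fgSub A s) (A := A) (B := B₀)).toRingHom)).ι).EssSurj := by
  let A₀ := H8Lim.fgSub A s
  haveI : Algebra.IsStandardSmooth A₀ B₀ := Algebra.IsStandardSmoothOfRelativeDimension.isStandardSmooth n
  haveI : Algebra.FiniteType A₀ B₀ := inferInstance
  haveI : IsNoetherianRing B₀ := Algebra.FiniteType.isNoetherianRing A₀ B₀
  obtain ⟨W₀, hW₀, hWJ⟩ := exists_good_nhd J₀ h
  let φ₀ : Spec (CommRingCat.of B₀) ⟶ Spec (CommRingCat.of A₀) := Spec.map (CommRingCat.ofHom (algebraMap A₀ B₀))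
  haveI : SmoothOfRelativeDimension n φ₀ := smoothRelDim_of_standard n
  haveI : Smooth φ₀ := SmoothOfRelativeDimension.smooth n φ₀
  let T := A ⊗[A₀] B₀
  let inc : B₀ →+* T := (Algebra.TensorProduct.includeRight (R := A₀) (A := A) (B := B₀)).toRingHom
  let X := Spec (CommRingCat.of T)
  let fT : X ⟶ Spec (CommRingCat.of A) := Spec.map (CommRingCat.ofHom (algebraMap A T))
  let q : X ⟶ Spec (CommRingCat.of B₀) := Spec.map (CommRingCat.ofHom inc)
  let D := H8Lim.fgSpecDiagram A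
  let c := H8Lim.fgSpecCone A
  have sq₀ : IsPullback q fT φ₀ (c.π.app (op s)) := isPullback_tensor A₀ A B₀
  let qW : X ⟶ W₀ := IsOpenImmersion.lift W₀.ι q (by
    rw [Scheme.Opens.range_ι]; rintro - ⟨x, rfl⟩; exact hW₀ x)
  have hqW : qW ≫ W₀.ι = q := IsOpenImmersion.lift_fac _ _ _
  have sqW : IsPullback qW (𝟙 X) W₀.ι q :=
    ⟨⟨by rw [hqW, Category.id_comp]⟩, ⟨PullbackCone.IsLimit.mk _ (fun t => t.snd)
      (fun t => by rw [← cancel_mono W₀.ι, Category.assoc, hqW, t.condition])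
      (fun t => Category.comp_id _) (fun t m _ h2 => (Category.comp_id m).symm.trans h2)⟩⟩
  let f₁ : (W₀ : Scheme.{u}) ⟶ Spec (CommRingCat.of A₀) := W₀.ι ≫ φ₀
  have sq₁ : IsPullback qW fT f₁ (c.π.app (op s)) := by
    have := sqW.paste_vert sq₀
    rwa [Category.id_comp] at this
  let U₀ : (W₀ : Scheme.{u}).Opens := W₀.ι ⁻¹ᵁ Dc J₀
  have hU : qW ⁻¹ᵁ U₀ = Dc (J₀.map inc) := by
    ext x
    show qW x ∈ U₀ ↔ _
    show W₀.ι (qW x) ∈ Dc J₀ ↔ _
    rw [← Scheme.Hom.comp_apply, hqW]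
    exact not_congr Ideal.map_le_iff_le_comap.symm
  rw [← hU]
  let U' := qW ⁻¹ᵁ U₀
  let g₀ : (U₀ : Scheme.{u}) ⟶ Spec (CommRingCat.of A₀) := U₀.ι ≫ f₁
  have sqU : IsPullback (qW ∣_ U₀) (U'.ι ≫ fT) g₀ (c.π.app (op s)) :=
    (isPullback_morphismRestrict qW U₀).paste_vert sq₁
  haveI : NoetherianSpace (Spec (CommRingCat.of B₀)) := inferInstanceAs (NoetherianSpace (PrimeSpectrum B₀))
  haveI : NoetherianSpace (W₀ : Scheme.{u}) := inferInstanceAs (NoetherianSpace ↥(W₀ : Set (Spec (CommRingCat.of B₀))))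
  haveI : CompactSpace (U₀ : Scheme.{u}) := isCompact_iff_compactSpace.1 (NoetherianSpace.isCompact _)
  let cU := H8Lim.stageCone (D := D) g₀ c (qW ∣_ U₀) (U'.ι ≫ fT) sqU
  have hc : IsLimit cU := H8Lim.isLimitStageCone g₀ _ _ sqU (H8Lim.isLimitFgSpecCone A)
  refine ⟨fun V => ?_⟩
  haveI : IsFinite (show V.left ⟶ cU.pt from V.hom) := V.prop.1
  haveI : Etale (show V.left ⟶ cU.pt from V.hom) := V.prop.2
  obtain ⟨l, Vl, vl, qV, hv₁, hv₂, sqV⟩ := FEtQuot.FieldLimit.exists_stage_finEt hc (show V.left ⟶ cU.pt from V.hom)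
  obtain ⟨⟨t⟩, ⟨⟨⟩⟩, φ⟩ := l
  let d : Spec (CommRingCat.of (H8Lim.fgSub A t)) ⟶ Spec (CommRingCat.of A₀) := D.map φ
  let incl : A₀ →+* H8Lim.fgSub A t :=
    (Subalgebra.inclusion (Algebra.adjoin_mono (R := ℤ) (Finset.coe_subset.mpr (leOfHom φ.unop)))).toRingHom
  letI : Algebra A₀ (H8Lim.fgSub A t) := incl.toAlgebra
  have hd : d = Spec.map (CommRingCat.ofHom (algebraMap A₀ (H8Lim.fgSub A t))) := rfl
  haveI : Smooth (pullback.snd f₁ d) := MorphismProperty.pullback_snd f₁ d (inferInstanceAs (Smooth (W₀.ι ≫ φ₀)))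
  haveI : IsLocallyNoetherian (Spec (CommRingCat.of (H8Lim.fgSub A t))) := inferInstance
  let Xl := pullback f₁ d
  let Ul : Xl.Opens := pullback.fst f₁ d ⁻¹ᵁ U₀
  let m : Xl ⟶ Spec (CommRingCat.of (H8Lim.fgSub A t ⊗[A₀] B₀)) :=
    (isPullback_tensor A₀ (H8Lim.fgSub A t) B₀).lift (pullback.fst f₁ d ≫ W₀.ι) (pullback.snd f₁ d) (by
      rw [Category.assoc]; exact pullback.condition)
  have hm : IsPullback (pullback.fst f₁ d) m W₀.ι
      (Spec.map (CommRingCat.ofHom (Algebra.TensorProduct.includeRight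
        (R := A₀) (A := H8Lim.fgSub A t) (B := B₀)).toRingHom)) := by
    refine IsPullback.of_bot ?_ ((isPullback_tensor A₀ (H8Lim.fgSub A t) B₀).lift_fst _ _ _).symm
      (isPullback_tensor A₀ (H8Lim.fgSub A t) B₀)
    rw [(isPullback_tensor A₀ (H8Lim.fgSub A t) B₀).lift_snd]
    exact IsPullback.of_hasPullback f₁ d
  haveI : IsOpenImmersion m := MorphismProperty.of_isPullback hm inferInstance
  haveI : Algebra.IsStandardSmoothOfRelativeDimension n (H8Lim.fgSub A t) (H8Lim.fgSub A t ⊗[A₀] B₀) :=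
    Algebra.IsStandardSmoothOfRelativeDimension.baseChange n _
  have hCond : Cond (pullback.snd f₁ d) Ul := by
    intro y hy
    rw [← (isPullback_tensor A₀ (H8Lim.fgSub A t) B₀).lift_snd (pullback.fst f₁ d ≫ W₀.ι) (pullback.snd f₁ d) (by
      rw [Category.assoc]; exact pullback.condition)]
    obtain ⟨e⟩ := fiberStalk_comp_openImmersion m
      (Spec.map (CommRingCat.ofHom (algebraMap (H8Lim.fgSub A t) (H8Lim.fgSub A t ⊗[A₀] B₀)))) y
    rw [ringKrullDim_eq_of_ringEquiv e]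
    refine (two_le_dim_iff (smoothRelDim_of_standard n) (m y)).2 ?_
    have hy' : W₀.ι (pullback.fst f₁ d y) = PrimeSpectrum.comap (Algebra.TensorProduct.includeRight
        (R := A₀) (A := H8Lim.fgSub A t) (B := B₀)).toRingHom (m y) := by
      rw [← Scheme.Hom.comp_apply, hm.w]
      rfl
    have hmem : W₀.ι (pullback.fst f₁ d y) ∈ W₀ := (pullback.fst f₁ d y).2
    rw [hy'] at hmem
    have hJ : J₀ ≤ (PrimeSpectrum.comap (Algebra.TensorProduct.includeRight
        (R := A₀) (A := H8Lim.fgSub A t) (B := B₀)).toRingHom (m y)).asIdeal := by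
      rw [← hy']
      exact not_not.1 hy
    have h1 := hWJ _ hmem hJ
    have h2 := EGA43.FibDepth.trd_tensor_le (A := A₀) (A' := H8Lim.fgSub A t) (R := B₀) (m y)
    exact le_trans (Nat.add_le_add_right h2 2) h1
  haveI := essSurj_of_noetherian (pullback.snd f₁ d) Ul hCond
  let k : pullback g₀ d ⟶ Xl := pullback.lift (pullback.fst g₀ d ≫ U₀.ι) (pullback.snd g₀ d) (by
    rw [Category.assoc]; exact pullback.condition)
  have hk : IsPullback (pullback.fst g₀ d) k U₀.ι (pullback.fst f₁ d) := by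
    refine IsPullback.of_bot ?_ (pullback.lift_fst _ _ _).symm (IsPullback.of_hasPullback f₁ d)
    rw [pullback.lift_snd]
    exact IsPullback.of_hasPullback g₀ d
  let eU := hk.isoIsPullback _ _ (isPullback_morphismRestrict (pullback.fst f₁ d) U₀)
  have heU : eU.hom ≫ Ul.ι = k := hk.isoIsPullback_hom_snd _ _ _
  haveI := FEtFF.BiratPurity.restrict_isEquivalence_of_isIso eU.hom
  haveI : IsFinite (show Vl ⟶ pullback g₀ d from vl) := hv₁
  haveI : Etale (show Vl ⟶ pullback g₀ d from vl) := hv₂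
  let Vl₀ : FEt.Cat (pullback g₀ d) := MorphismProperty.Over.mk ⊤ (show Vl ⟶ pullback g₀ d from vl) ⟨hv₁, hv₂⟩
  let El := (FEt.restrict Ul.ι).objPreimage ((FEt.restrict eU.hom).objPreimage Vl₀)
  let e₁ : (FEt.restrict k).obj El ≅ Vl₀ :=
    (FEtStein.restrictCompIso eU.hom Ul.ι k heU).app El ≪≫
      (FEt.restrict eU.hom).mapIso ((FEt.restrict Ul.ι).objObjPreimageIso _) ≪≫
      (FEt.restrict eU.hom).objObjPreimageIso _
  let p : X ⟶ Xl := pullback.lift qW (fT ≫ c.π.app (op t)) (by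
    rw [Category.assoc]
    exact sq₁.w.trans (congrArg (fT ≫ ·) (c.w φ).symm))
  let πU : (U' : Scheme.{u}) ⟶ pullback g₀ d := cU.π.app ⟨op t, ⟨⟨⟩⟩, φ⟩
  have hπ : πU ≫ k = U'.ι ≫ p := by
    have h1 : πU ≫ pullback.fst g₀ d = qW ∣_ U₀ := H8Lim.stageProj_fst _ _ _ _ sqU _
    have h2 : πU ≫ pullback.snd g₀ d = (U'.ι ≫ fT) ≫ c.π.app (op t) := H8Lim.stageProj_snd _ _ _ _ sqU _
    apply pullback.hom_ext
    · rw [Category.assoc, pullback.lift_fst, reassoc_of% h1, Category.assoc, pullback.lift_fst, morphismRestrict_ι]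
    · rw [Category.assoc, pullback.lift_snd, h2, Category.assoc, Category.assoc, pullback.lift_snd]
  let e₂ : (FEt.restrict πU).obj Vl₀ ≅ V := MorphismProperty.Over.isoMk sqV.isoPullback.symm sqV.isoPullback_inv_snd
  exact ⟨(FEt.restrict p).obj El, ⟨((FEtStein.restrictCompIso U'.ι p (U'.ι ≫ p) rfl).app El).symm ≪≫
    (FEtStein.restrictCompIso πU k (U'.ι ≫ p) hπ).app El ≪≫ (FEt.restrict πU).mapIso e₁ ≪≫ e₂⟩⟩

/-- **A chart**: on a standard smooth affine chart there is a quasi-compact open inside `U` from which covers extend. -/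
theorem exists_qc_open {A B : Type u} [CommRing A] [CommRing B] [Algebra A B]
    [Algebra.IsStandardSmoothOfRelativeDimension n A B] (U : (Spec (CommRingCat.of B)).Opens)
    (hU : Cond (Spec.map (CommRingCat.ofHom (algebraMap A B))) U) :
    ∃ U' : (Spec (CommRingCat.of B)).Opens, IsCompact (U' : Set (Spec (CommRingCat.of B))) ∧ U' ≤ U ∧
      Cond (Spec.map (CommRingCat.ofHom (algebraMap A B))) U' ∧ (FEt.restrict U'.ι).EssSurj := by
  classical
  haveI : Algebra.IsStandardSmooth A B := Algebra.IsStandardSmoothOfRelativeDimension.isStandardSmooth n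
  haveI : Algebra.FiniteType A B := inferInstance
  have hs : FlatCA.SmoothRelDim n A B := smoothRelDim_of_standard n
  let J : Ideal B := PrimeSpectrum.vanishingIdeal (R := B) U.1ᶜ
  have hJU : ∀ q : PrimeSpectrum B, J ≤ q.asIdeal → q ∉ U := fun q hq => by
    have : q ∈ PrimeSpectrum.zeroLocus (J : Set B) := hq
    simp only [J] at this
    erw [PrimeSpectrum.zeroLocus_vanishingIdeal_eq_closure] at this
    rwa [U.2.isClosed_compl.closure_eq] at this
  have hd : ∀ q : PrimeSpectrum B, J ≤ q.asIdeal → trd A q + 2 ≤ n := fun q hq =>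
    (two_le_dim_iff hs q).1 (hU q (hJU q hq))
  obtain ⟨J', hfg, hle, hJ'⟩ := exists_fg_le (A := A) J (n - 2) fun q hq => by have := hd q hq; omega
  by_cases hn : n < 2
  · have hUtop : U = ⊤ := top_le_iff.1 fun q _ => by
      by_contra hq
      have := (two_le_dim_iff hs q).1 (hU q hq)
      omega
    subst hUtop
    haveI : IsIso (⊤ : (Spec (CommRingCat.of B)).Opens).ι := (Spec (CommRingCat.of B)).topIso.isIso_hom
    haveI := FEtFF.BiratPurity.restrict_isEquivalence_of_isIso (⊤ : (Spec (CommRingCat.of B)).Opens).ι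
    exact ⟨⊤, isCompact_univ, le_rfl, fun q hq => absurd trivial hq, inferInstance⟩
  obtain ⟨gs, hgs⟩ := hfg
  obtain ⟨s, hs'⟩ := exists_model_ring (n := n) (A := A) gs
  obtain ⟨B₀, _, _, hB₀, e, hx⟩ := hs' (H8Lim.fgSub A s) Algebra.subset_adjoin
  haveI := hB₀
  choose! x hx using hx
  let A₀ := H8Lim.fgSub A s
  let J₀ : Ideal B₀ := Ideal.span (x '' (gs : Set B))
  let inc := (Algebra.TensorProduct.includeRight (R := A₀) (A := A) (B := B₀)).toRingHom
  have hmap : (J₀.map inc).map e.toRingEquiv.toRingHom = J' := by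
    rw [Ideal.map_map, Ideal.map_span, ← Set.image_comp, ← hgs]
    refine congrArg Ideal.span ?_
    refine (Set.image_congr fun b hb => ?_).trans (Set.image_id _)
    exact hx b hb
  have hcond' : ∀ q : PrimeSpectrum (A ⊗[A₀] B₀),
      J₀.map inc ≤ q.asIdeal → trd A q + 2 ≤ n := fun q hq => by
    obtain ⟨Q, rfl⟩ : ∃ Q, PrimeSpectrum.comap e.toAlgHom.toRingHom Q = q := ⟨PrimeSpectrum.comap e.symm.toAlgHom.toRingHom q, by ext x; show e.symm (e x) ∈ q.asIdeal ↔ _; rw [e.symm_apply_apply]⟩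
    have hQ : J' ≤ Q.asIdeal := by
      rw [← hmap]
      exact Ideal.map_le_iff_le_comap.2 hq
    have h1 := hJ' Q hQ
    have h2 := EGA43.FibDepth.trd_comap_of_surjectiveOnStalks (A := A) e.toAlgHom
      (RingHom.surjectiveOnStalks_of_surjective e.surjective) Q
    show trd A (PrimeSpectrum.comap e.toAlgHom.toRingHom Q) + 2 ≤ n
    omega
  haveI := essSurj_model J₀ hcond'
  let r : Spec (CommRingCat.of B) ⟶ Spec (CommRingCat.of (A ⊗[A₀] B₀)) :=
    Spec.map (CommRingCat.ofHom e.toRingEquiv.toRingHom)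
  haveI : IsIso r := by
    haveI : IsIso (CommRingCat.ofHom e.toRingEquiv.toRingHom) := e.toRingEquiv.toCommRingCatIso.isIso_hom
    infer_instance
  let Z := Dc (J₀.map inc)
  have hr : r ⁻¹ᵁ Z = Dc J' := by
    ext x
    show ¬ _ ↔ ¬ J' ≤ x.asIdeal
    rw [← hmap]
    exact not_congr Ideal.map_le_iff_le_comap.symm
  refine ⟨Dc J', ?_, fun q hq => ?_, fun q hq => ?_, ?_⟩
  · exact (PrimeSpectrum.isCompact_isOpen_iff_ideal.2 ⟨J', ⟨gs, hgs⟩, rfl⟩).1
  · by_contra hqU
    refine hq (hle.trans ?_)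
    exact fun b hb => (PrimeSpectrum.mem_vanishingIdeal _ _).1 hb q hqU
  · refine (two_le_dim_iff hs q).2 ?_
    have := hJ' q (not_not.1 hq)
    omega
  · rw [← hr]
    haveI := FEtFF.BiratPurity.restrict_isEquivalence_of_isIso r
    haveI : IsIso (r ∣_ Z) := inferInstance
    haveI := FEtFF.BiratPurity.restrict_isEquivalence_of_isIso (r ∣_ Z)
    refine ⟨fun V => ?_⟩
    let V₁ := (FEt.restrict (r ∣_ Z)).objPreimage V
    let E₁ := (FEt.restrict Z.ι).objPreimage V₁
    exact ⟨(FEt.restrict r).obj E₁,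
      ⟨((FEtStein.restrictCompIso (r ⁻¹ᵁ Z).ι r _ rfl).app E₁).symm ≪≫
        (FEtStein.restrictCompIso (r ∣_ Z) Z.ι _ (morphismRestrict_ι r Z)).app E₁ ≪≫
        (FEt.restrict (r ∣_ Z)).mapIso ((FEt.restrict Z.ι).objObjPreimageIso V₁) ≪≫
        (FEt.restrict (r ∣_ Z)).objObjPreimageIso V⟩⟩

end Groth.Agent.RelPurity2
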